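import Groth.Agent.DerivedCoh.PCoh.TopCohomology
import Groth.Agent.QCohMod.PullbackQCoh
import Mathlib.Algebra.Homology.DerivedCategory.SingleTriangle
import Mathlib.Algebra.Homology.DerivedCategory.FullyFaithful

/-!
Pseudo-coherence of a module in degree zero.
-/

universe u

open CategoryTheory CategoryTheory.Limits AlgebraicGeometry
open Groth.KTheory.Perf

namespace Groth.DerivedCoh.PCoh

attribute [local instance] HasDerivedCategory.standard

variable {X : Scheme.{u}}

lemma isFinLocFree_freeOn (ι : Type u) [Finite ι] :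
    FlatMod.IsFinLocFree (Groth.LocFree.freeOn X ι) := by
  cases nonempty_fintype ι
  exact Groth.KTheory.LocFree.isFinLocFree_of_iso
    (Sigma.whiskerEquiv (g := fun _ : ι => Coh.structureModule X) (Fintype.equivFin ι).symm
      fun _ => Iso.refl _) (Groth.LocFree.isFinLocFree_freeMod X (Fintype.card ι))

lemma hd_inD_eq_zero (F : X.Modules) {i : ℤ} (hi : i ≠ 0) : IsZero (DCoh.HD (DCoh.inD X F) i) := by
  refine IsZero.of_iso ?_ ((DerivedCategory.homologyFunctorFactors X.Modules i).app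
    ((HomologicalComplex.single X.Modules (ComplexShape.up ℤ) 0).obj F))
  exact (HomologicalComplex.exactAt_iff_isZero_homology _ _).1
    (HomologicalComplex.exactAt_single_obj _ _ _ _ hi)

/-- a finite free module is pseudo-coherent -/
lemma isPerfect_inD {P : X.Modules} (hP : FlatMod.IsFinLocFree P) :
    DCoh.IsPerfect (DCoh.inD X P) := by
  rw [isPerfect_iff]
  intro x
  refine ⟨⊤, trivial, (Rc (⊤ : X.Opens).ι).obj
    ((HomologicalComplex.single X.Modules (ComplexShape.up ℤ) 0).obj P),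
    rc_isStrictlyPerfect _ ⟨⟨0, 0, fun i hi => HomologicalComplex.isZero_single_obj_X _ 0 P i
      (by lia)⟩, fun i => ?_⟩, ⟨rdQIso _ _⟩⟩
  by_cases hi : i = 0
  · subst hi
    exact Groth.KTheory.LocFree.isFinLocFree_of_iso (HomologicalComplex.singleObjXSelf _ 0 P).symm hP
  · exact Groth.KTheory.LocFree.isFinLocFree_zero (HomologicalComplex.isZero_single_obj_X _ 0 P i hi)

/-- restriction of `inD` -/
noncomputable def rdInDIso {U : Scheme.{u}} (j : U ⟶ X) [IsOpenImmersion j] (M : X.Modules) :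
    (Rd j).obj (DCoh.inD X M) ≅ DCoh.inD U (M.restrict j) :=
  rdQIso j _ ≪≫ DerivedCategory.Q.mapIso
    ((HomologicalComplex.singleMapHomologicalComplex (Scheme.Modules.restrictFunctor j)
      (ComplexShape.up ℤ) 0).app M)

/-- pseudo-coherence can be checked on the members of a cover -/
lemma isPseudoCoherentD_of_local {m : ℤ} {K : DCoh.D X}
    (h : ∀ x : X, ∃ V : X.Opens, x ∈ V ∧ DCoh.IsPseudoCoherentD m ((Rd V.ι).obj K)) :
    DCoh.IsPseudoCoherentD m K := by
  rw [isPseudoCoherentD_iff]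
  intro x
  obtain ⟨V, hx, hV⟩ := h x
  obtain ⟨W, hW, E, α, hE, hα⟩ := (isPseudoCoherentD_iff m _).1 hV ⟨x, hx⟩
  obtain ⟨c⟩ := nonempty_rdComp (k := W.ι) (j := V.ι) (l := W.ι ≫ V.ι) rfl K
  exact ⟨(W.ι ≫ V.ι).opensRange, ⟨⟨⟨x, hx⟩, hW⟩, rfl⟩,
    pcohOn_of_range _ hE (α ≫ c.inv) (hα.comp (near_of_isIso _))⟩

/-- finite generators give `0`-pseudo-coherence -/
theorem isPseudoCoherentD_of_generators {M : X.Modules}
    (G : SheafOfModules.GeneratingSections (R := X.ringCatSheaf) M) (hG : Finite G.I) :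
    DCoh.IsPseudoCoherentD 0 (DCoh.inD X M) := by
  let π : Groth.LocFree.freeOn X G.I ⟶ M := G.π
  have : Epi π := G.epi
  rw [isPseudoCoherentD_iff]
  intro x
  obtain ⟨V, hx, E, α, hE, hα⟩ := (isPseudoCoherentD_iff 0 _).1
    (isPseudoCoherentD_of_isPerfect (isPerfect_inD (isFinLocFree_freeOn (X := X) G.I)) 0) x
  refine ⟨V, hx, E, α ≫ (Rd V.ι).map ((DerivedCategory.singleFunctor X.Modules 0).map π), hE,
    hα.comp (near_rd _ ⟨fun i hi => ?_, ?_⟩)⟩
  · exact ⟨⟨0, (hd_inD_eq_zero _ hi.ne').eq_of_src _ _, (hd_inD_eq_zero _ hi.ne').eq_of_src _ _⟩⟩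
  · exact ((MorphismProperty.epimorphisms X.Modules).arrow_mk_iso_iff
      (((Functor.mapArrowFunctor _ _).mapIso
        (DerivedCategory.singleFunctorCompHomologyFunctorIso X.Modules 0)).app (Arrow.mk π))).2 ‹_›

/-- finite type implies `0`-pseudo-coherent -/
theorem isPseudoCoherentD_of_isFT {F : X.Modules} (hF : CohB1.IsFT F) :
    DCoh.IsPseudoCoherentD 0 (DCoh.inD X F) := by
  refine isPseudoCoherentD_of_local fun x => ?_
  choose V hV G hG using Groth.QCohMod.exists_generators_of_isFT F hF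
  exact ⟨V x, hV x, isPseudoCoherentD_of_iso (rdInDIso _ F).symm
    (isPseudoCoherentD_of_generators (G x) (hG x))⟩

/-- finite presentation implies `(-1)`-pseudo-coherent -/
theorem isPseudoCoherentD_of_isFP {F : X.Modules} (hF : CohB1.IsFP F) :
    DCoh.IsPseudoCoherentD (-1) (DCoh.inD X F) := by
  refine isPseudoCoherentD_of_local fun x => ?_
  obtain ⟨V, hx, P, hP⟩ := Groth.QCohMod.exists_presentation_of_isFP F hF x
  refine ⟨V, hx, isPseudoCoherentD_of_iso (rdInDIso _ F).symm ?_⟩
  have : Finite P.generators.I := hP.isFiniteType_generators.finite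
  let π : Groth.LocFree.freeOn (V : Scheme.{u}) P.generators.I ⟶ F.restrict V.ι := P.generators.π
  have : Epi π := P.generators.epi
  let S : ShortComplex (V : Scheme.{u}).Modules :=
    ShortComplex.mk (kernel.ι π) π (kernel.condition π)
  have hS : S.ShortExact :=
    { exact := ShortComplex.exact_of_f_is_kernel S (kernelIsKernel π) }
  refine isPseudoCoherentD_obj₃ hS.singleTriangle hS.singleTriangle_distinguished ?_ ?_
  · rw [show (-1 : ℤ) + 1 = 0 from rfl]
    exact isPseudoCoherentD_of_generators P.relations hP.isFiniteType_relations.finite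
  · exact isPseudoCoherentD_of_isPerfect (isPerfect_inD (isFinLocFree_freeOn _)) _

theorem pseudoCoherent_inD_iff (F : X.Modules) :
    (DCoh.IsPseudoCoherentD 0 (DCoh.inD X F) ↔ CohB1.IsFT F) ∧
      (DCoh.IsPseudoCoherentD (-1) (DCoh.inD X F) ↔ CohB1.IsFP F) := by
  let e : DCoh.HD (DCoh.inD X F) 0 ≅ F :=
    (DerivedCategory.singleFunctorCompHomologyFunctorIso X.Modules 0).app F
  refine ⟨⟨fun h => ?_, isPseudoCoherentD_of_isFT⟩, ⟨fun h => ?_, isPseudoCoherentD_of_isFP⟩⟩
  · exact Groth.QCohMod.isFT_of_iso e (isFT_top h fun i hi => hd_inD_eq_zero F (by lia))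
  · have hh := isFP_top h fun i hi => hd_inD_eq_zero F (by lia)
    rw [show (-1 : ℤ) + 1 = 0 from rfl] at hh
    have : (SheafOfModules.isFinitePresentation X.ringCatSheaf) (DCoh.HD (DCoh.inD X F) 0) := hh
    exact (SheafOfModules.isFinitePresentation X.ringCatSheaf).prop_of_iso e this

end Groth.DerivedCoh.PCoh
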