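import Groth.Agent.DerivedCoh.PCoh.Perfect
import Groth.Agent.LocFree.SES
import Groth.Agent.LocFree.FP
import Groth.Agent.QCohMod.FTCriterion

/-!
The top cohomology sheaf of a pseudo-coherent object.
-/

universe u

open CategoryTheory CategoryTheory.Limits AlgebraicGeometry
open Groth.KTheory.Perf

namespace Groth.DerivedCoh.PCoh

attribute [local instance] HasDerivedCategory.standard

variable {X : Scheme.{u}}

/-- cycles of a strictly perfect complex exact above `m` -/
theorem isFinLocFree_cycles {E : CochainComplex X.Modules ℤ} (hE : DCoh.IsStrictlyPerfect E)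
    (c : ℤ) (hex : ∀ i, c < i → E.ExactAt i) {i : ℤ} (hi : c ≤ i) :
    FlatMod.IsFinLocFree (E.cycles i) := by
  obtain ⟨⟨a, d, hd⟩, hfl⟩ := hE
  have hZ : ∀ n : ℕ, ∀ i : ℤ, c ≤ i → d < i + n → FlatMod.IsFinLocFree (E.cycles i) := by
    intro n
    induction n with
    | zero =>
      intro i _ hdi
      exact Groth.KTheory.LocFree.isFinLocFree_zero
        (IsZero.of_mono (E.iCycles i) (hd i (.inr (by lia))))
    | succ n ih =>
      intro i hi hdi
      let T := ShortComplex.mk (E.toCycles i (i + 1)) (E.homologyπ (i + 1))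
        (E.toCycles_comp_homologyπ i (i + 1))
      have hT : T.Exact :=
        ShortComplex.exact_of_g_is_cokernel T (E.homologyIsCokernel i (i + 1) (by simp))
      have h0 := (HomologicalComplex.exactAt_iff_isZero_homology _ _).1 (hex (i + 1) (by lia))
      have : Epi (E.toCycles i (i + 1)) := hT.epi_f (h0.eq_of_tgt _ _)
      let S := ShortComplex.mk (E.iCycles i) (E.toCycles i (i + 1)) (by
        rw [← cancel_mono (E.iCycles (i + 1))]
        simp)
      have hS : S.ShortExact :=
        { exact := ShortComplex.exact_of_f_is_kernel S (KernelFork.IsLimit.ofι _ _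
            (fun k hk => E.liftCycles k (i + 1) (by simp) (by
              rw [← E.toCycles_i i (i + 1), ← Category.assoc, hk, zero_comp]))
            (fun k hk => E.liftCycles_i k (i + 1) (by simp) _)
            (fun k hk m hm => by rw [← cancel_mono (E.iCycles i), hm]; simp)) }
      exact Groth.LocFree.isFinLocFree_left hS (hfl i) (ih (i + 1) (by lia) (by lia))
  exact hZ ((d - i).toNat + 1) i hi (by lia)

/-- local data for the top cohomology -/
theorem exists_affine_data {m : ℤ} {K : DCoh.D X} (hK : DCoh.IsPseudoCoherentD m K) {n : ℤ}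
    (hmn : m ≤ n) (h0 : ∀ i, n < i → IsZero (DCoh.HD K i)) (x : X) :
    ∃ (V : X.Opens) (E : CochainComplex (V : Scheme.{u}).Modules ℤ)
      (β : E.homology n ⟶ (DCoh.HD K n).restrict V.ι),
      IsAffineOpen V ∧ x ∈ V ∧ DCoh.IsStrictlyPerfect E ∧ (∀ i, n < i → E.ExactAt i) ∧
      Epi β ∧ (m < n → IsIso β) := by
  obtain ⟨V₀, hx₀, hV₀⟩ := (isPseudoCoherentD_iff m K).1 hK x
  obtain ⟨V, hV, hx, hle⟩ := TopologicalSpace.Opens.isBasis_iff_nbhd.mp X.isBasis_affineOpens hx₀
  obtain ⟨E, α, hE, hα⟩ := hV₀.mono_open hle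
  let e := (nonempty_hdRd (Scheme.Opens.ι V) K n).some
  let β : E.homology n ⟶ (DCoh.HD K n).restrict (Scheme.Opens.ι V) :=
    ((DerivedCategory.homologyFunctorFactors _ n).app E).inv ≫
      (DerivedCategory.homologyFunctor _ n).map α ≫ e.hom
  have hex : ∀ i, n < i → E.ExactAt i := fun i hi => by
    rw [HomologicalComplex.exactAt_iff_isZero_homology]
    have := hα.1 i (by lia)
    exact (((Scheme.Modules.restrictFunctor (Scheme.Opens.ι V)).map_isZero (h0 i hi)).of_iso
      ((nonempty_hdRd (Scheme.Opens.ι V) K i).some)).of_iso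
        (((DerivedCategory.homologyFunctorFactors _ i).app E).symm ≪≫
          asIso ((DerivedCategory.homologyFunctor _ i).map α))
  have h1 := ((DerivedCategory.homologyFunctorFactors (V : Scheme.{u}).Modules n).app E).isIso_inv
  refine ⟨V, E, β, hV, hx, hE, hex, ?_, fun hlt => ?_⟩
  · exact epi_comp' (@IsIso.epi_of_iso _ _ _ _ _ h1) (epi_comp' (hα.mono hmn).2 inferInstance)
  · exact IsIso.comp_isIso' h1 (IsIso.comp_isIso' (hα.1 n hlt) inferInstance)

theorem isFT_top {m : ℤ} {K : DCoh.D X} (hK : DCoh.IsPseudoCoherentD m K)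
    (h0 : ∀ i, m < i → IsZero (DCoh.HD K i)) : CohB1.IsFT (DCoh.HD K m) := by
  have key : ∀ x : X, ∃ (V : X.Opens), x ∈ V ∧
      ∃ G : ((DCoh.HD K m).restrict V.ι).GeneratingSections, Finite G.I := fun x => by
    obtain ⟨V, E, β, hV, hx, hE, hex, hβ, -⟩ := exists_affine_data hK le_rfl h0 x
    have : IsAffine (V : Scheme.{u}) := hV
    obtain ⟨hq, ha⟩ :=
      Groth.LocFree.isFinLocFree_iff_affine.1 (isFinLocFree_cycles hE m hex le_rfl)
    obtain ⟨G, hG⟩ := Groth.QCohMod.exists_generators_of_finite (E.cycles m)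
      (ha ⊤ (isAffineOpen_top _)).1
    have : Epi (C := SheafOfModules.{u} _) (E.homologyπ m ≫ β) :=
      inferInstanceAs (Epi (E.homologyπ m ≫ β))
    exact ⟨V, hx, G.ofEpi (E.homologyπ m ≫ β), hG⟩
  choose V hx G hG using key
  exact Groth.QCohMod.isFT_of_cover _ V (fun x => ⟨x, hx x⟩) G hG

theorem isFP_top {m : ℤ} {K : DCoh.D X} (hK : DCoh.IsPseudoCoherentD m K)
    (h0 : ∀ i, m + 1 < i → IsZero (DCoh.HD K i)) : CohB1.IsFP (DCoh.HD K (m + 1)) := by
  have key : ∀ x : X, ∃ (V : X.Opens), x ∈ V ∧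
      ∃ p : ((DCoh.HD K (m + 1)).restrict V.ι).Presentation, p.IsFinite := fun x => by
    obtain ⟨V, E, β, hV, hx, hE, hex, -, hβ⟩ := exists_affine_data hK (by lia) h0 x
    have := hβ (by lia)
    have : IsAffine (V : Scheme.{u}) := hV
    let φ := E.toCycles m (m + 1)
    have hM := hE.2 m
    have hN := isFinLocFree_cycles hE (m + 1) hex le_rfl
    let c := IsColimit.coconePointUniqueUpToIso (cokernelIsCokernel φ)
      (E.homologyIsCokernel m (m + 1) (by simp))
    have hq := isQCoh_coker hM hN φ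
    obtain ⟨p, hp⟩ := Groth.LocFree.exists_presentation_of_finitePresentation (cokernel φ)
      (finitePresentation_coker hM hN φ (isAffineOpen_top _))
    have : IsIso (C := SheafOfModules.{u} _) (c.hom ≫ β) :=
      inferInstanceAs (IsIso (c.hom ≫ β))
    exact ⟨V, hx, SheafOfModules.Presentation.ofIsIso.{u, u, u} (c.hom ≫ β) p,
      ⟨⟨hp.isFiniteType_generators.finite⟩, ⟨hp.isFiniteType_relations.finite⟩⟩⟩
  choose V hx p hp using key
  exact Groth.QCohMod.isFP_of_cover _ V (fun x => ⟨x, hx x⟩) p hp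

end Groth.DerivedCoh.PCoh
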