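import Groth.Agent.DerivedCoh.PCoh.Pullback
import Groth.Agent.Misc8.FibreSquare
import Groth.Agent.QCohMod.Category
import Mathlib.Algebra.Category.ModuleCat.Biproducts

/-!
Pseudo-coherent objects of finite tor dimension are perfect.
-/

universe u

open CategoryTheory CategoryTheory.Limits CategoryTheory.Pretriangulated AlgebraicGeometry
open Groth.KTheory.Perf

namespace Groth.DerivedCoh.PCoh

open Groth.DerivedCoh.KFlat (T stk)

attribute [local instance] HasDerivedCategory.standard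

variable {X U : Scheme.{u}}

local notation "up" => ComplexShape.up ℤ

lemma isFlat₁ (S : ShortComplex X.Modules) (hS : S.ShortExact) (h2 : FlatMod.IsFlat S.X₂)
    (h3 : FlatMod.IsFlat S.X₃) : FlatMod.IsFlat S.X₁ := fun x => by
  have h := (KFlat.shortExact_iff_stk S).1 hS x
  have : Module.Flat (X.presheaf.stalk x) (S.map (stk x)).X₂ := h2 x
  have : Module.Flat (X.presheaf.stalk x) (S.map (stk x)).X₃ := h3 x
  exact Groth.Misc8.FibreSquare.flat_of_shortExact (S.map (stk x)).f.hom (S.map (stk x)).g.hom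
    ((ModuleCat.mono_iff_injective _).1 h.mono_f) ((ModuleCat.epi_iff_surjective _).1 h.epi_g)
    ((ShortComplex.ShortExact.moduleCat_exact_iff_function_exact _).1 h.exact)

attribute [local instance] preservesBinaryBiproducts_of_preservesBinaryCoproducts in
lemma isFlat_biprod {M N : X.Modules} (hM : FlatMod.IsFlat M) (hN : FlatMod.IsFlat N) :
    FlatMod.IsFlat (M ⊞ N) := fun x => by
  have : Module.Flat (X.presheaf.stalk x) ((stk x).obj M) := hM x
  have : Module.Flat (X.presheaf.stalk x) ((stk x).obj N) := hN x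
  have := Groth.Misc8.FibreSquare.flat_prod (R := X.presheaf.stalk x) (N := (stk x).obj M)
    (P := (stk x).obj N)
  have : (stk (X := X) x).Additive := Functor.additive_of_preservesBinaryBiproducts _
  exact Module.Flat.of_linearEquiv
    ((stk x).mapBiprod M N ≪≫ ModuleCat.biprodIsoProd _ _).toLinearEquiv

lemma isFlat_restrict (j : U ⟶ X) [IsOpenImmersion j] {M : X.Modules} (h : FlatMod.IsFlat M) :
    FlatMod.IsFlat (M.restrict j) :=
  Groth.CohTwo.isFlat_of_iso ((Scheme.Modules.restrictFunctorIsoPullback j).app M)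
    (KFlat.isFlat_pullback j h)

/-- in an acyclic bounded complex with flat terms above its lowest degree, the lowest term is flat -/
theorem isFlat_lowest (C : CochainComplex X.Modules ℤ) (hC : C.Acyclic) (c d : ℤ)
    (hlo : ∀ i, i < c → IsZero (C.X i)) (hhi : ∀ i, d < i → IsZero (C.X i))
    (hfl : ∀ i, c < i → FlatMod.IsFlat (C.X i)) : FlatMod.IsFlat (C.X c) := by
  have hse : ∀ i : ℤ, (ShortComplex.mk (C.iCycles i) (C.toCycles i (i + 1)) (by
      rw [← cancel_mono (C.iCycles (i + 1))]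
      simp)).ShortExact := fun i => by
    have he : Epi (C.toCycles i (i + 1)) := by
      have h := hC (i + 1)
      rw [HomologicalComplex.exactAt_iff_isZero_homology] at h
      let S := ShortComplex.mk (C.toCycles i (i + 1)) (C.homologyπ (i + 1))
        (C.toCycles_comp_homologyπ i (i + 1))
      have hS : S.Exact :=
        ShortComplex.exact_of_g_is_cokernel S (C.homologyIsCokernel i (i + 1) (by simp))
      exact hS.epi_f (h.eq_of_tgt _ _)
    exact
      { exact := ShortComplex.exact_of_f_is_kernel _ (KernelFork.IsLimit.ofι _ _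
            (fun k hk => C.liftCycles k (i + 1) (by simp) (by
              rw [← C.toCycles_i i (i + 1), ← Category.assoc, hk, zero_comp]))
            (fun k hk => by simp)
            (fun k hk m hm => by rw [← cancel_mono (C.iCycles i), hm]; simp)) }
  have hZ : ∀ n : ℕ, ∀ i : ℤ, c < i → d < i + n → FlatMod.IsFlat (C.cycles i) := by
    intro n
    induction n with
    | zero =>
      intro i _ hd
      exact KFlat.isFlat_of_isZero (IsZero.of_mono (C.iCycles i) (hhi i (by lia)))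
    | succ n ih =>
      intro i hi hd
      exact isFlat₁ _ (hse i) (hfl i hi) (ih (i + 1) (by lia) (by lia))
  have h0 : IsZero (C.cycles c) := by
    have := (hse (c - 1)).epi_g
    have e : c - 1 + 1 = c := by lia
    exact e ▸ IsZero.of_epi (C.toCycles (c - 1) (c - 1 + 1)) (hlo (c - 1) (by lia))
  have : IsIso (C.toCycles c (c + 1)) := by
    have := (hse c).epi_g
    have : Mono (C.toCycles c (c + 1)) := (hse c).exact.mono_g (h0.eq_of_src _ _)
    exact isIso_of_mono_of_epi _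
  exact Groth.CohTwo.isFlat_of_iso (asIso (C.toCycles c (c + 1)))
    (hZ (d - c).toNat (c + 1) (by lia) (by lia))

/-- sections of a cokernel of finite locally free modules on an affine open are finitely presented -/
theorem finitePresentation_coker {M N : X.Modules} (hM : FlatMod.IsFinLocFree M)
    (hN : FlatMod.IsFinLocFree N) (φ : M ⟶ N) {U : X.Opens} (hU : IsAffineOpen U) :
    Module.FinitePresentation Γ(X, U) Γ(cokernel φ, U) := by
  obtain ⟨hMq, hMa⟩ := Groth.LocFree.isFinLocFree_iff_affine.1 hM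
  obtain ⟨hNq, hNa⟩ := Groth.LocFree.isFinLocFree_iff_affine.1 hN
  have := (hMa U hU).1
  have := (hNa U hU).1
  have := (hNa U hU).2
  have : Module.FinitePresentation Γ(X, U) Γ(N, U) := Module.finitePresentation_of_projective _ _
  let p : Γ(N, U) →ₗ[Γ(X, U)] Γ(cokernel φ, U) := Groth.QCohMod.appₗ (cokernel.π φ) U
  let q : Γ(M, U) →ₗ[Γ(X, U)] Γ(N, U) := Groth.QCohMod.appₗ φ U
  have hp : Function.Surjective p := Groth.QCohMod.app_surjective_of_epi (cokernel.π φ) hU
  refine Module.finitePresentation_of_surjective p hp ?_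
  have hker : LinearMap.ker p = LinearMap.range q := by
    refine le_antisymm (fun y hy => ?_) ?_
    · obtain ⟨z, hz⟩ := Groth.QCohMod.exists_app_eq_of_exact
        (S := ShortComplex.mk φ (cokernel.π φ) (cokernel.condition φ))
        (ShortComplex.exact_of_g_is_cokernel _ (cokernelIsCokernel φ)) hU y hy
      exact ⟨z, hz⟩
    · rintro _ ⟨z, rfl⟩
      exact congr(($(cokernel.condition φ)).app U z)
  rw [hker, LinearMap.range_eq_map]
  exact Submodule.FG.map _ Module.Finite.fg_top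

lemma isQCoh_coker {M N : X.Modules} (hM : FlatMod.IsFinLocFree M) (hN : FlatMod.IsFinLocFree N)
    (φ : M ⟶ N) : (cokernel φ).IsQuasicoherent := by
  have := Groth.KTheory.LocFree.isQCoh hM
  have := Groth.KTheory.LocFree.isQCoh hN
  infer_instance

/-- a flat cokernel of a morphism of finite locally free modules is finite locally free -/
theorem isFinLocFree_coker {M N : X.Modules} (hM : FlatMod.IsFinLocFree M)
    (hN : FlatMod.IsFinLocFree N) (φ : M ⟶ N) (h : FlatMod.IsFlat (cokernel φ)) :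
    FlatMod.IsFinLocFree (cokernel φ) := by
  have := isQCoh_coker hM hN φ
  refine Groth.LocFree.isFinLocFree_of_flat (fun x => ?_) h
  obtain ⟨U, hU, hx⟩ := Groth.QCohMod.exists_affine_mem x
  exact ⟨U, hU, hx, finitePresentation_coker hM hN φ hU⟩

/-- `(a-1)`-pseudo-coherent and flat amplitude `[a, b]` implies perfect, locally -/
theorem exists_perfOn_of_flatAmp {K : DCoh.D X} {V : X.Opens} {a b : ℤ}
    (hF : DCoh.HasFlatAmplitudeIn a b ((Rd V.ι).obj K)) (hK : PCohOn (a - 1) K V) (x : X)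
    (hx : x ∈ V) : ∃ W : X.Opens, x ∈ W ∧ PerfOn K W := by
  obtain ⟨F, hF0, hFfl, ⟨eF⟩⟩ := hF
  obtain ⟨E₀, α, hE₀, hα⟩ := hK
  obtain ⟨E, ι, hE, hEa, hι⟩ := exists_stupidGE E₀ hE₀ (a - 1)
  let φ : DCoh.toD (V : Scheme.{u}) E ⟶ DCoh.toD _ F := DerivedCategory.Q.map ι ≫ α ≫ eF.inv
  have hφ : Near (a - 1) φ := hι.comp (hα.comp (near_of_isIso _))
  obtain ⟨Y, g, s, hs, hfac⟩ := DerivedCategory.left_fac φ
  have hq : QuasiIso s := (DerivedCategory.isIso_Q_map_iff_quasiIso _ s).1 hs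
  obtain ⟨W, β, hxW, ⟨H⟩⟩ := exists_lift_qis g s hE (a - 1) hEa
    (fun j _ => inferInstance) inferInstance ⟨x, hx⟩
  have hβ : DerivedCategory.Q.map β ≫ DerivedCategory.Q.map ((Rc W.ι).map s) =
      DerivedCategory.Q.map ((Rc W.ι).map g) := by
    rw [← Functor.map_comp]
    exact DerivedCategory.Q_map_eq_of_homotopy _ H
  have key : (Rd W.ι).map φ = (rdQIso W.ι E).hom ≫ DerivedCategory.Q.map β ≫ (rdQIso W.ι F).inv := by
    rw [hfac, Functor.map_comp, Functor.map_inv, IsIso.comp_inv_eq, rd_map_Q, rd_map_Q, ← hβ]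
    simp
  have hQβ : Near (a - 1) (DerivedCategory.Q.map β) := by
    have : DerivedCategory.Q.map β = (rdQIso W.ι E).inv ≫ (Rd W.ι).map φ ≫ (rdQIso W.ι F).hom := by
      rw [key]; simp
    rw [this]
    exact (near_of_isIso _).comp ((near_rd _ hφ).comp (near_of_isIso _))
  let E₁ := (Rc W.ι).obj E
  let F₁ := (Rc W.ι).obj F
  have : F₁.IsStrictlyGE a := (CochainComplex.isStrictlyGE_iff _ a).2 fun i hi =>
    rc_isZero W.ι (hF0 i (.inl hi))
  have := (CochainComplex.isIso_πTruncGE_iff F₁ a).2 inferInstance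
  have : QuasiIso (CochainComplex.truncGEMap β a) := by
    rw [CochainComplex.quasiIso_truncGEMap_iff]
    intro i hi
    rw [quasiIsoAt_iff_isIso_homologyMap]
    exact (NatIso.isIso_map_iff (DerivedCategory.homologyFunctorFactors _ i) β).1 (hQβ.1 i (by lia))
  let E' := E₁.truncGE a
  let γ : E' ⟶ F₁ := CochainComplex.truncGEMap β a ≫ inv (F₁.πTruncGE a)
  have hγ : QuasiIso γ := by dsimp [γ]; infer_instance
  obtain ⟨⟨c, d, hcd⟩, hEfl⟩ := rc_isStrictlyPerfect W.ι hE
  have h0 : ∀ i, i < a ∨ max a (max b d) < i → IsZero (E'.X i) := by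
    rintro i (hi | hi)
    · exact E'.isZero_of_isStrictlyGE a i hi
    · exact (E₁.truncGEXIso a i (by lia)).isZero_iff.2 (hcd i (.inr (by lia)))
  have hgt : ∀ i, a < i → FlatMod.IsFinLocFree (E'.X i) := fun i hi =>
    Groth.KTheory.LocFree.isFinLocFree_of_iso (E₁.truncGEXIso a i hi).symm (hEfl i)
  have e : ∀ i : ℤ, (CochainComplex.mappingCone γ).X i ≅ E'.X (i + 1) ⊞ F₁.X i :=
    fun i => HomologicalComplex.homotopyCofiber.XIsoBiprod γ i (i + 1) (by simp)
  have hEa' : FlatMod.IsFlat (E'.X a) := by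
    have h := isFlat_lowest (CochainComplex.mappingCone γ)
      (KFlat.acyclic_mappingCone_of_quasiIso γ) (a - 1) (max a (max b d))
      (fun i hi => IsZero.of_iso ((biprod_isZero_iff _ _).2
        ⟨h0 _ (.inl (by lia)), rc_isZero W.ι (hF0 i (.inl (by lia)))⟩) (e i))
      (fun i hi => IsZero.of_iso ((biprod_isZero_iff _ _).2
        ⟨h0 _ (.inr (by lia)), rc_isZero W.ι (hF0 i (.inr (by lia)))⟩) (e i))
      fun i hi => Groth.CohTwo.isFlat_of_iso (e i) (isFlat_biprod
        (isFlat_of_isFinLocFree (hgt _ (by lia))) (isFlat_restrict _ (hFfl i)))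
    have hz : IsZero (F₁.X (a - 1)) := rc_isZero W.ι (hF0 _ (.inl (by lia)))
    have e' : E'.X (a - 1 + 1) ≅ (CochainComplex.mappingCone γ).X (a - 1) :=
      (isoBiprodZero hz) ≪≫ (e (a - 1)).symm
    exact (show a - 1 + 1 = a by lia) ▸ Groth.CohTwo.isFlat_of_iso e' h
  let ec₀ :=
    IsColimit.coconePointUniqueUpToIso (E₁.opcyclesIsCokernel (a - 1) a (by simp))
      (cokernelIsCokernel (E₁.d (a - 1) a))
  have ec : E'.X a ≅ cokernel (E₁.d (a - 1) a) := E₁.truncGEXIsoOpcycles a ≪≫ ec₀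
  have hE' : DCoh.IsStrictlyPerfect E' := by
    refine ⟨⟨a, max a (max b d), h0⟩, fun i => ?_⟩
    rcases lt_trichotomy i a with hi | rfl | hi
    · exact Groth.KTheory.LocFree.isFinLocFree_zero (h0 i (.inl hi))
    · exact Groth.KTheory.LocFree.isFinLocFree_of_iso ec.symm
        (isFinLocFree_coker (hEfl _) (hEfl _) _ (Groth.CohTwo.isFlat_of_iso ec.symm hEa'))
    · exact hgt i hi
  obtain ⟨k⟩ := nonempty_rdComp (k := W.ι) (j := V.ι) (l := W.ι ≫ V.ι) rfl K
  exact ⟨(W.ι ≫ V.ι).opensRange, ⟨⟨⟨x, hx⟩, hxW⟩, rfl⟩, perfOn_of_range _ hE'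
    (k ≪≫ (Rd W.ι).mapIso eF.symm ≪≫ rdQIso _ F ≪≫ (asIso (DerivedCategory.Q.map γ)).symm)⟩

lemma pcohOn_of_perfOn {K : DCoh.D X} {V : X.Opens} (h : PerfOn K V) (m : ℤ) : PCohOn m K V := by
  obtain ⟨E, hE, ⟨e⟩⟩ := h
  exact ⟨E, e.inv, hE, near_of_isIso _⟩

theorem isPseudoCoherentD_of_isPerfect {K : DCoh.D X} (h : DCoh.IsPerfect K) (m : ℤ) :
    DCoh.IsPseudoCoherentD m K := by
  rw [isPseudoCoherentD_iff]
  rw [isPerfect_iff] at h
  intro x
  obtain ⟨V, hx, hV⟩ := h x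
  exact ⟨V, hx, pcohOn_of_perfOn hV m⟩

lemma exists_flatAmp_of_perfOn {K : DCoh.D X} {V : X.Opens} (h : PerfOn K V) :
    ∃ a b : ℤ, a ≤ b ∧ DCoh.HasFlatAmplitudeIn a b ((Rd V.ι).obj K) := by
  obtain ⟨E, ⟨⟨a, b, hab⟩, hfl⟩, ⟨e⟩⟩ := h
  exact ⟨a, max a b, le_max_left a b, E, fun i hi => hab i (hi.imp_right fun h => by lia),
    fun i => isFlat_of_isFinLocFree (hfl i), ⟨e.symm⟩⟩

/-- `(a-1)`-pseudo-coherent and flat amplitude `[a, b]` implies perfect -/
theorem isPerfect_of_flatAmp {K : DCoh.D X} {a b : ℤ} (h1 : DCoh.HasFlatAmplitudeIn a b K)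
    (h2 : DCoh.IsPseudoCoherentD (a - 1) K) : DCoh.IsPerfect K := by
  rw [isPseudoCoherentD_iff] at h2
  rw [isPerfect_iff]
  intro x
  obtain ⟨V, hx, hV⟩ := h2 x
  obtain ⟨F, h0, hfl, ⟨e⟩⟩ := h1
  exact exists_perfOn_of_flatAmp ⟨(Rc V.ι).obj F, fun i hi => rc_isZero V.ι (h0 i hi),
    fun i => isFlat_restrict _ (hfl i), ⟨(rdQIso _ F).symm ≪≫ (Rd V.ι).mapIso e⟩⟩ hV x hx

/-- perfect means pseudo-coherent and locally of finite tor dimension -/
theorem isPerfect_iff_pseudoCoherent (K : DCoh.D X) :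
    DCoh.IsPerfect K ↔ (∀ m : ℤ, DCoh.IsPseudoCoherentD m K) ∧ DCoh.LocHasFiniteTorDim K := by
  refine ⟨fun h => ⟨isPseudoCoherentD_of_isPerfect h, fun x => ?_⟩, fun ⟨hp, ht⟩ => ?_⟩
  · obtain ⟨V, hx, hV⟩ := (isPerfect_iff K).1 h x
    obtain ⟨a, b, -, E, h0, hfl, ⟨e⟩⟩ := exists_flatAmp_of_perfOn hV
    exact ⟨V, a, b, hx, fun F' ⟨i⟩ =>
      ⟨E, h0, hfl, ⟨e ≪≫ (Rd V.ι).mapIso i.symm ≪≫ rdQIso _ F'⟩⟩⟩
  · rw [isPerfect_iff]
    intro x
    obtain ⟨V, a, b, hx, hV⟩ := ht x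
    obtain ⟨F', ⟨i⟩⟩ := exists_rep K
    obtain ⟨E, h0, hfl, ⟨e⟩⟩ := hV F' ⟨i⟩
    obtain ⟨V', hx', hV'⟩ := (isPseudoCoherentD_iff _ K).1 (hp (a - 1)) x
    let j : (↑(V ⊓ V') : Scheme.{u}) ⟶ ↑V := X.homOfLE inf_le_left
    obtain ⟨c⟩ := nonempty_rdComp (k := j) (j := V.ι) (l := (V ⊓ V').ι) (X.homOfLE_ι _).symm K
    exact exists_perfOn_of_flatAmp ⟨(Rc j).obj E, fun i hi => rc_isZero j (h0 i hi),
      fun i => isFlat_restrict _ (hfl i),
      ⟨(rdQIso j E).symm ≪≫ (Rd j).mapIso (e ≪≫ (rdQIso V.ι F').symm ≪≫ (Rd V.ι).mapIso i) ≪≫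
        c.symm⟩⟩ (hV'.mono_open inf_le_right) x ⟨hx, hx'⟩

/-- retracts of perfect objects are perfect -/
theorem isPerfect_summands (K L : DCoh.D X) [HasBinaryBiproduct K L]
    (h : DCoh.IsPerfect (K ⊞ L)) : DCoh.IsPerfect K ∧ DCoh.IsPerfect L := by
  have hp := fun m => isPseudoCoherentD_summands K L (isPseudoCoherentD_of_isPerfect h m)
  have key : ∀ (M : DCoh.D X) (i : M ⟶ K ⊞ L) (r : K ⊞ L ⟶ M), i ≫ r = 𝟙 M →
      (∀ m, DCoh.IsPseudoCoherentD m M) → DCoh.IsPerfect M := by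
    intro M i r hir hM
    rw [isPerfect_iff] at h ⊢
    intro x
    obtain ⟨V, hx, hV⟩ := h x
    obtain ⟨a, b, hab, hfa⟩ := exists_flatAmp_of_perfOn hV
    obtain ⟨V', hx', hV'⟩ := (isPseudoCoherentD_iff _ M).1 (hM (a - 1)) x
    obtain ⟨E, h0, hfl, ⟨e⟩⟩ := KFlat.flatAmp_of_torAmp _ a b hab (KFlat.torAmp_of_retract
      ((Rd V.ι).map i) ((Rd V.ι).map r) (by rw [← Functor.map_comp, hir]; exact CategoryTheory.Functor.map_id _ _)
      (KFlat.torAmp_of_flatAmp hfa))
    let j : (↑(V ⊓ V') : Scheme.{u}) ⟶ ↑V := X.homOfLE inf_le_left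
    obtain ⟨c⟩ := nonempty_rdComp (k := j) (j := V.ι) (l := (V ⊓ V').ι) (X.homOfLE_ι _).symm M
    exact exists_perfOn_of_flatAmp ⟨(Rc j).obj E, fun i hi => rc_isZero j (h0 i hi),
      fun i => isFlat_restrict _ (hfl i), ⟨(rdQIso j E).symm ≪≫ (Rd j).mapIso e ≪≫ c.symm⟩⟩
      (hV'.mono_open inf_le_right) x ⟨hx, hx'⟩
  exact ⟨key K biprod.inl biprod.fst biprod.inl_fst fun m => (hp m).1,
    key L biprod.inr biprod.snd biprod.inr_snd fun m => (hp m).2⟩

end Groth.DerivedCoh.PCoh
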