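import Groth.Agent.DerivedCoh.PCoh.Pullback
import Groth.Agent.DerivedCoh.KFlat.LTensorCx
import Groth.Agent.LocFree.Tensor

/-!
The tensor product of perfect objects is perfect.
-/

universe u

open CategoryTheory CategoryTheory.Limits AlgebraicGeometry HomologicalComplex ZeroObject
open Groth.KTheory.Perf

namespace Groth.DerivedCoh.PCoh

open Groth.DerivedCoh.KFlat (T IsKFlat tot totR pullCx)

attribute [local instance] HasDerivedCategory.standard

variable {X : Scheme.{u}}

local notation "up" => ComplexShape.up ℤ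

/-- a finite coproduct of finite locally free modules is finite locally free -/
theorem isFinLocFree_sigma_finite (α : Type) [Finite α] (N : α → X.Modules)
    (h : ∀ a, FlatMod.IsFinLocFree (N a)) : FlatMod.IsFinLocFree (∐ N) := by
  refine Finite.induction_empty_option
    (P := fun α => ∀ N : α → X.Modules, (∀ a, FlatMod.IsFinLocFree (N a)) →
      FlatMod.IsFinLocFree (∐ N)) ?_ ?_ ?_ α N h
  · intro α β e hα N hN
    exact Groth.KTheory.LocFree.isFinLocFree_of_iso (Sigma.reindex e N) (hα _ fun a => hN (e a))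
  · intro N _
    refine Groth.KTheory.LocFree.isFinLocFree_zero ?_
    rw [IsZero.iff_id_eq_zero]
    exact Sigma.hom_ext _ _ fun i => i.elim
  · intro α _ hα N hN
    let M := fun a : α => N (some a)
    let e : N none ⊞ (∐ M) ≅ ∐ N :=
      { hom := biprod.desc (Sigma.ι N none) (Sigma.desc fun a => Sigma.ι N (some a))
        inv := Sigma.desc fun a =>
          match a with
          | none => biprod.inl
          | some a => Sigma.ι M a ≫ biprod.inr
        hom_inv_id := by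
          refine biprod.hom_ext' _ _ (by simp) (Sigma.hom_ext _ _ fun a => by simp [M])
        inv_hom_id := by
          refine Sigma.hom_ext _ _ fun a => ?_
          cases a <;> simp [M] }
    exact Groth.KTheory.LocFree.isFinLocFree_of_iso e
      (Groth.KTheory.LocFree.isFinLocFree_biprod (hN none) (hα M fun a => hN (some a)))

/-- a coproduct of finite locally free modules, almost all zero, is finite locally free -/
theorem isFinLocFree_sigma (β : Type) (N : β → X.Modules) (h : ∀ b, FlatMod.IsFinLocFree (N b))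
    (s : Set β) (hs : s.Finite) (h0 : ∀ b, b ∉ s → IsZero (N b)) :
    FlatMod.IsFinLocFree (∐ N) := by
  classical
  have := hs.to_subtype
  let M := fun b : s => N b.1
  let e : ∐ M ≅ ∐ N :=
    { hom := Sigma.desc fun b => Sigma.ι N b.1
      inv := Sigma.desc fun b => if hb : b ∈ s then Sigma.ι M ⟨b, hb⟩ else 0
      hom_inv_id := Sigma.hom_ext _ _ fun b => by simp [M, b.2]
      inv_hom_id := Sigma.hom_ext _ _ fun b => by
        by_cases hb : b ∈ s
        · simp [M, hb]
        · exact (h0 b hb).eq_of_src _ _ }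
  exact Groth.KTheory.LocFree.isFinLocFree_of_iso e
    (isFinLocFree_sigma_finite s M fun b => h b.1)

theorem isStrictlyPerfect_tot {E E' : CochainComplex X.Modules ℤ} (hE : DCoh.IsStrictlyPerfect E)
    (hE' : DCoh.IsStrictlyPerfect E') : DCoh.IsStrictlyPerfect (tot (T X) E E') := by
  obtain ⟨⟨a, b, hab⟩, hfl⟩ := hE
  obtain ⟨⟨a', b', hab'⟩, hfl'⟩ := hE'
  have hz : ∀ p q, (p < a ∨ b < p ∨ q < a' ∨ b' < q) →
      IsZero (((T X).obj (E.X p)).obj (E'.X q)) := fun p q h => by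
    rcases h with h | h | h | h
    · exact ((T X).flip.obj (E'.X q)).map_isZero (hab p (.inl h))
    · exact ((T X).flip.obj (E'.X q)).map_isZero (hab p (.inr h))
    · exact ((T X).obj (E.X p)).map_isZero (hab' q (.inl h))
    · exact ((T X).obj (E.X p)).map_isZero (hab' q (.inr h))
  refine ⟨⟨a + a', b + b', fun n hn => ?_⟩, fun n => ?_⟩
  · rw [IsZero.iff_id_eq_zero]
    refine HomologicalComplex₂.total.hom_ext _ fun p q h => (hz p q ?_).eq_of_src _ _
    simp at h
    lia
  · refine isFinLocFree_sigma _ _ (fun i => ?_) {i | i.1.1 ∈ Set.Icc a b} ?_ fun i hi => hz _ _ ?_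
    · exact Groth.LocFree.isFinLocFree_tensorMod (hfl _) (hfl' _)
    · refine Set.Finite.of_injOn (f := fun i => i.1.1) (fun i hi => hi) ?_ (Set.finite_Icc a b)
      rintro ⟨⟨p, q⟩, h⟩ _ ⟨⟨p', q'⟩, h'⟩ _ (rfl : p = p')
      simp at h h'
      obtain rfl : q = q' := by lia
      rfl
    · simp at hi
      lia

/-- the second variable of `⊗` -/
theorem nonempty_tot_congr {E B B' : CochainComplex X.Modules ℤ} (hE : IsKFlat (T X).flip E)
    (e : DCoh.toD X B ≅ DCoh.toD X B') : Nonempty (DCoh.toD X (tot (T X) E B) ≅ DCoh.toD X (tot (T X) E B')) := by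
  obtain ⟨A, s, hs, g, hfac⟩ := DerivedCategory.right_fac e.hom
  have hg : IsIso (DerivedCategory.Q.map g) := by
    have : DerivedCategory.Q.map g = DerivedCategory.Q.map s ≫ e.hom := by rw [hfac]; simp
    rw [this]
    infer_instance
  have hs' := (DerivedCategory.isIso_Q_map_iff_quasiIso _ s).1 hs
  have hg' := (DerivedCategory.isIso_Q_map_iff_quasiIso _ g).1 hg
  have hS := (DerivedCategory.isIso_Q_map_iff_quasiIso _ _).2 (KFlat.quasiIso_totR (T X) hE s)
  have hG := (DerivedCategory.isIso_Q_map_iff_quasiIso _ _).2 (KFlat.quasiIso_totR (T X) hE g)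
  exact ⟨(@asIso _ _ _ _ (DerivedCategory.Q.map ((totR (T X) E).map s)) hS).symm ≪≫
    @asIso _ _ _ _ (DerivedCategory.Q.map ((totR (T X) E).map g)) hG⟩

theorem isPerfect_LTensor (L : CochainComplex X.Modules ℤ) (hL : IsKFlat (T X) L)
    (hLp : DCoh.IsPerfect (DCoh.toD X L)) [DCoh.HasLTensorCx L] (K : DCoh.D X)
    (hK : DCoh.IsPerfect K) : DCoh.IsPerfect ((DCoh.LTensorCx L).obj K) := by
  rw [isPerfect_iff] at hLp hK ⊢
  intro x
  obtain ⟨V₁, hx₁, hV₁⟩ := hK x
  obtain ⟨V₂, hx₂, hV₂⟩ := hLp x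
  obtain ⟨E, hE, ⟨e⟩⟩ := perfOn_mono (inf_le_left : V₁ ⊓ V₂ ≤ V₁) hV₁
  obtain ⟨E', hE', ⟨e'⟩⟩ := perfOn_mono (inf_le_right : V₁ ⊓ V₂ ≤ V₂) hV₂
  obtain ⟨C, ⟨eC⟩⟩ := exists_rep K
  let j := (V₁ ⊓ V₂).ι
  let r : ∀ F : CochainComplex X.Modules ℤ, (Rd j).obj (DCoh.toD X F) ≅ DCoh.toD _ ((pullCx j).obj F) :=
    fun F => rdQIso j F ≪≫ DerivedCategory.Q.mapIso
      ((NatIso.mapHomologicalComplex (Scheme.Modules.restrictFunctorIsoPullback j) up).app F)
  have hjL : IsKFlat (T _) ((pullCx j).obj L) := KFlat.isKFlat_pullCx j L hL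
  have := KFlat.hasLTensorCx_of_isKFlat _ hjL
  have hEf : IsKFlat (T (↑(V₁ ⊓ V₂) : Scheme.{u})).flip E := by
    obtain ⟨⟨a, b, hab⟩, hfl⟩ := hE
    exact KFlat.isKFlat_of_flat _ E b (fun q hq => hab q (.inr hq))
      fun q => KFlat.flat_flip_of_isFlat (isFlat_of_isFinLocFree (hfl q))
  obtain ⟨c⟩ := nonempty_tot_congr hEf ((r L).symm ≪≫ e')
  refine ⟨V₁ ⊓ V₂, ⟨hx₁, hx₂⟩, _, isStrictlyPerfect_tot hE hE',
    ⟨(Rd j).mapIso ((DCoh.LTensorCx L).mapIso eC.symm ≪≫ KFlat.ltcxIso L hL C) ≪≫ r _ ≪≫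
      DerivedCategory.Q.mapIso (KFlat.pullTotIso j C L) ≪≫ (KFlat.ltcxIso _ hjL _).symm ≪≫
      (DCoh.LTensorCx ((pullCx j).obj L)).mapIso ((r C).symm ≪≫ (Rd j).mapIso eC ≪≫ e) ≪≫
      KFlat.ltcxIso _ hjL E ≪≫ c⟩⟩

end Groth.DerivedCoh.PCoh
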