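import Groth.Agent.DerivedCoh.PCoh.Basic
import Groth.Agent.DerivedCoh.KFlat.Amplitude
import Groth.Agent.LocFree.Affine
import Groth.Agent.PropsBasic.LocFree

/-!
Inverse images of perfect and pseudo-coherent objects.
-/

universe u

open CategoryTheory CategoryTheory.Limits CategoryTheory.Pretriangulated AlgebraicGeometry
open Groth.KTheory.Perf

namespace Groth.DerivedCoh.PCoh

open Groth.DerivedCoh.KFlat (T pullCx IsKFlat)

attribute [local instance] HasDerivedCategory.standard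

variable {X Y : Scheme.{u}}

local notation "up" => ComplexShape.up ℤ

lemma isFlat_of_isFinLocFree {M : X.Modules} (h : FlatMod.IsFinLocFree M) : FlatMod.IsFlat M := by
  have : M.IsQuasicoherent := (Groth.LocFree.isFinLocFree_iff_affine.1 h).1
  intro x
  have := ((Groth.PropsBasic.LocFree.isFinLocFree_iff M).1 h).2 x
  exact show Module.Flat _ _ from inferInstance

lemma isKFlat_of_isStrictlyPerfect {E : CochainComplex X.Modules ℤ} (h : DCoh.IsStrictlyPerfect E) :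
    IsKFlat (T X) E := by
  obtain ⟨⟨a, b, hab⟩, hfl⟩ := h
  exact KFlat.isKFlat_of_isFlat_of_vanishes E a b hab fun i => isFlat_of_isFinLocFree (hfl i)

lemma isStrictlyPerfect_pullCx (f : X ⟶ Y) {E : CochainComplex Y.Modules ℤ}
    (h : DCoh.IsStrictlyPerfect E) : DCoh.IsStrictlyPerfect ((pullCx f).obj E) := by
  obtain ⟨⟨a, b, hab⟩, hfl⟩ := h
  exact ⟨⟨a, b, fun i hi => (Scheme.Modules.pullback f).map_isZero (hab i hi)⟩,
    fun i => Groth.LocFree.isFinLocFree_pullback f (hfl i)⟩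

/-- restricting an inverse image -/
noncomputable def pullRestrictIso (f : X ⟶ Y) (V : Y.Opens) :
    Scheme.Modules.pullback f ⋙ Scheme.Modules.restrictFunctor (f ⁻¹ᵁ V).ι ≅
      Scheme.Modules.restrictFunctor V.ι ⋙ Scheme.Modules.pullback (f ∣_ V) :=
  Functor.isoWhiskerLeft _ (Scheme.Modules.restrictFunctorIsoPullback _) ≪≫
    Scheme.Modules.pullbackComp _ _ ≪≫
    Scheme.Modules.pullbackCongr (morphismRestrict_ι f V).symm ≪≫
    (Scheme.Modules.pullbackComp _ _).symm ≪≫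
    Functor.isoWhiskerRight (Scheme.Modules.restrictFunctorIsoPullback _).symm _

/-- the restriction of a K-flat complex is K-flat -/
lemma isKFlat_rc {U : Scheme.{u}} (j : U ⟶ Y) [IsOpenImmersion j] {P : CochainComplex Y.Modules ℤ}
    (hP : IsKFlat (T Y) P) : IsKFlat (T U) ((Rc j).obj P) :=
  (KFlat.isKFlat_pullCx j P hP).of_iso
    ((NatIso.mapHomologicalComplex (Scheme.Modules.restrictFunctorIsoPullback j) up).app P).symm

/-- restricting `Lf^*` -/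
theorem nonempty_rd_Lpull (f : X ⟶ Y) [DCoh.HasLpull f] (V : Y.Opens) [DCoh.HasLpull (f ∣_ V)]
    (K : DCoh.D Y) :
    Nonempty ((Rd (f ⁻¹ᵁ V).ι).obj ((DCoh.Lpull f).obj K) ≅
      (DCoh.Lpull (f ∣_ V)).obj ((Rd V.ι).obj K)) := by
  obtain ⟨F, ⟨e⟩⟩ := exists_rep K
  have := KFlat.flatResolution_quasiIso F
  let P := (KFlat.flatResolution Y).obj F
  have hP : IsKFlat (T Y) P := KFlat.flatResolution_isKFlat F
  let eP : DCoh.toD Y P ≅ K :=
    asIso (DerivedCategory.Q.map ((KFlat.flatResolutionAug Y).app F)) ≪≫ e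
  exact ⟨(Rd _).mapIso ((DCoh.Lpull f).mapIso eP.symm ≪≫ KFlat.lpullQIso f P hP) ≪≫ rdQIso _ _ ≪≫
    DerivedCategory.Q.mapIso ((NatIso.mapHomologicalComplex (pullRestrictIso f V) up).app P) ≪≫
    (KFlat.lpullQIso (f ∣_ V) ((Rc V.ι).obj P) (isKFlat_rc V.ι hP)).symm ≪≫
    (DCoh.Lpull (f ∣_ V)).mapIso ((rdQIso V.ι P).symm ≪≫ (Rd V.ι).mapIso eP)⟩

theorem isPerfect_Lpull (f : X ⟶ Y) [DCoh.HasLpull f] {K : DCoh.D Y} (hK : DCoh.IsPerfect K) :
    DCoh.IsPerfect ((DCoh.Lpull f).obj K) := by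
  rw [isPerfect_iff] at hK ⊢
  intro x
  obtain ⟨V, hx, E, hE, ⟨e⟩⟩ := hK (f x)
  have := KFlat.hasLpull (f ∣_ V)
  obtain ⟨c⟩ := nonempty_rd_Lpull f V K
  exact ⟨f ⁻¹ᵁ V, hx, _, isStrictlyPerfect_pullCx (f ∣_ V) hE,
    ⟨c ≪≫ (DCoh.Lpull (f ∣_ V)).mapIso e ≪≫
      KFlat.lpullQIso _ E (isKFlat_of_isStrictlyPerfect hE)⟩⟩

/-- a flat bounded above representative of an object below `m` -/
theorem exists_flat_rep_of_below {m : ℤ} {C : DCoh.D Y} (hC : Below m C) :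
    ∃ P : CochainComplex Y.Modules ℤ, IsKFlat (T Y) P ∧ (∀ i, FlatMod.IsFlat (P.X i)) ∧
      (∀ i, m ≤ i → IsZero (P.X i)) ∧ Nonempty (DCoh.toD Y P ≅ C) := by
  obtain ⟨F, ⟨e⟩⟩ := exists_rep C
  have : F.IsLE (m - 1) := by
    rw [CochainComplex.isLE_iff]
    exact fun i hi => (KFlat.isZero_hd_toD_iff F i).1 (KFlat.isZero_hd_of_iso e (hC i (by lia)))
  let F' := F.truncLE (m - 1)
  have h0 : ∀ p, m - 1 < p → IsZero (F'.X p) := fun p hp => F'.isZero_of_isStrictlyLE (m - 1) p hp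
  let V := KFlat.schemeCover Y
  have := V.quasiIso_resAug F' (m - 1) h0
  let β : V.res.obj F' ⟶ F := V.resAug.app F' ≫ F.ιTruncLE (m - 1)
  have hβ : QuasiIso β := by dsimp [β]; infer_instance
  have hflat : ∀ q, FlatMod.IsFlat ((V.res.obj F').X q) := fun q =>
    V.res_X_prop FlatMod.IsFlat KFlat.isFlat_coverObj (fun _ => KFlat.isFlat_of_isZero)
      (fun e h => Groth.CohTwo.isFlat_of_iso e.symm h) KFlat.isFlat_sigma₀ F' q
  refine ⟨V.res.obj F', ?_, hflat, fun i hi => V.res_X_zero F' (m - 1) h0 i (by lia),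
    ⟨asIso (DerivedCategory.Q.map β) ≪≫ e⟩⟩
  exact KFlat.isKFlat_of_flat (T Y) _ (m - 1) (V.res_X_zero F' (m - 1) h0)
    fun q => KFlat.flat_of_isFlat (hflat q)

lemma below_Lpull (g : X ⟶ Y) [DCoh.HasLpull g] {m : ℤ} {C : DCoh.D Y} (hC : Below m C) :
    Below m ((DCoh.Lpull g).obj C) := by
  obtain ⟨P, hP, -, h0, ⟨e⟩⟩ := exists_flat_rep_of_below hC
  intro i hi
  refine KFlat.isZero_hd_of_iso ((DCoh.Lpull g).mapIso e.symm ≪≫ KFlat.lpullQIso g P hP) ?_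
  rw [KFlat.isZero_hd_toD_iff]
  exact HomologicalComplex.ExactAt.of_isZero ((Scheme.Modules.pullback g).map_isZero (h0 i hi))

theorem isPseudoCoherentD_Lpull (f : X ⟶ Y) [DCoh.HasLpull f] {m : ℤ} {K : DCoh.D Y}
    (hK : DCoh.IsPseudoCoherentD m K) : DCoh.IsPseudoCoherentD m ((DCoh.Lpull f).obj K) := by
  rw [isPseudoCoherentD_iff] at hK ⊢
  intro x
  obtain ⟨V, hx, E, α, hE, hα⟩ := hK (f x)
  have := KFlat.hasLpull (f ∣_ V)
  obtain ⟨c⟩ := nonempty_rd_Lpull f V K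
  obtain ⟨C, v, w, hT⟩ := distinguished_cocone_triangle α
  obtain ⟨S, hS, ⟨i₁⟩, ⟨i₂⟩, ⟨i₃⟩⟩ := KFlat.exists_triangle (Scheme.Modules.pullback (f ∣_ V))
    (DCoh.Lpull (f ∣_ V)) (fun P hP => ⟨KFlat.lpullQIso _ P hP⟩) _ hT
  have hS₃ : Below m S.obj₃ := (below_Lpull _ (below_of_near _ hT hα)).of_iso i₃.symm
  exact ⟨f ⁻¹ᵁ V, hx, _,
    ((KFlat.lpullQIso _ E (isKFlat_of_isStrictlyPerfect hE)).inv ≫ i₁.inv) ≫ S.mor₁ ≫
      i₂.hom ≫ c.inv,
    isStrictlyPerfect_pullCx (f ∣_ V) hE,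
    (near_of_isIso _).comp ((near_of_below _ hS hS₃).comp (near_of_isIso _))⟩

end Groth.DerivedCoh.PCoh
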