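import Groth.Agent.DerivedCoh.PCoh.Near
import Groth.Agent.KTheory.PerfCoh
import Mathlib.Algebra.Homology.Embedding.CochainComplex
import Mathlib.Algebra.Homology.Embedding.StupidTrunc

/-!
Pseudo-coherent objects of the derived category of a scheme, through restrictions to open subschemes.
-/

universe u

open CategoryTheory CategoryTheory.Limits CategoryTheory.Pretriangulated AlgebraicGeometry ZeroObject

namespace Groth.DerivedCoh.PCoh

open Groth.KTheory.Perf

attribute [local instance] HasDerivedCategory.standard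

variable {X U : Scheme.{u}}

lemma below_rd (j : U ⟶ X) [IsOpenImmersion j] {m : ℤ} {C : DCoh.D X} (h : Below m C) :
    Below m ((Rd j).obj C) := fun i hi =>
  (Scheme.Modules.restrictFunctor j).map_isZero (h i hi) |>.of_iso (nonempty_hdRd j C i).some

lemma near_rd (j : U ⟶ X) [IsOpenImmersion j] {m : ℤ} {K L : DCoh.D X} {α : K ⟶ L}
    (h : Near m α) : Near m ((Rd j).map α) := by
  obtain ⟨C, v, w, hT⟩ := distinguished_cocone_triangle α
  exact near_of_below _ ((Rd j).map_distinguished _ hT) (below_rd j (below_of_near _ hT h))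

/-- `K` receives on `V` a near isomorphism from a strictly perfect complex -/
def PCohOn (m : ℤ) (K : DCoh.D X) (V : X.Opens) : Prop :=
  ∃ (E : CochainComplex (V : Scheme.{u}).Modules ℤ) (α : DCoh.toD _ E ⟶ (Rd V.ι).obj K),
    DCoh.IsStrictlyPerfect E ∧ Near m α

lemma PCohOn.of_iso {m : ℤ} {K L : DCoh.D X} {V : X.Opens} (h : PCohOn m K V) (e : K ≅ L) :
    PCohOn m L V := by
  obtain ⟨E, α, hE, hα⟩ := h
  exact ⟨E, α ≫ (Rd V.ι).map e.hom, hE, hα.comp (near_of_isIso _)⟩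

lemma PCohOn.mono {m m' : ℤ} {K : DCoh.D X} {V : X.Opens} (h : PCohOn m K V) (hm : m ≤ m') :
    PCohOn m' K V := by
  obtain ⟨E, α, hE, hα⟩ := h
  exact ⟨E, α, hE, hα.mono hm⟩

lemma PCohOn.mono_open {m : ℤ} {K : DCoh.D X} {V W : X.Opens} (hWV : W ≤ V) (h : PCohOn m K V) :
    PCohOn m K W := by
  obtain ⟨E, α, hE, hα⟩ := h
  obtain ⟨c⟩ := nonempty_rdComp (k := X.homOfLE hWV) (j := V.ι) (l := W.ι)
    (X.homOfLE_ι hWV).symm K
  exact ⟨_, (rdQIso _ E).inv ≫ (Rd (X.homOfLE hWV)).map α ≫ c.inv,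
    rc_isStrictlyPerfect (X.homOfLE hWV) hE,
    (near_of_isIso _).comp ((near_rd _ hα).comp (near_of_isIso _))⟩

/-- near isomorphism on the range of an open immersion -/
lemma pcohOn_of_range {m : ℤ} {K : DCoh.D X} (j : U ⟶ X) [IsOpenImmersion j]
    {E : CochainComplex U.Modules ℤ} (hE : DCoh.IsStrictlyPerfect E)
    (α : DCoh.toD U E ⟶ (Rd j).obj K) (hα : Near m α) : PCohOn m K j.opensRange := by
  obtain ⟨c⟩ := nonempty_rdComp (k := j.isoOpensRange.inv) (j := j) (l := j.opensRange.ι)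
    j.isoOpensRange_inv_comp.symm K
  exact ⟨_, (rdQIso _ E).inv ≫ (Rd j.isoOpensRange.inv).map α ≫ c.inv,
    rc_isStrictlyPerfect _ hE, (near_of_isIso _).comp ((near_rd _ hα).comp (near_of_isIso _))⟩

theorem isPseudoCoherentD_iff (m : ℤ) (K : DCoh.D X) :
    DCoh.IsPseudoCoherentD m K ↔ ∀ x : X, ∃ V : X.Opens, x ∈ V ∧ PCohOn m K V := by
  refine ⟨fun h x => ?_, fun h x => ?_⟩
  · obtain ⟨V, hx, hV⟩ := h x
    obtain ⟨F, ⟨i⟩⟩ := exists_rep K
    obtain ⟨E, α, hE, h1, h2⟩ := hV F ⟨i⟩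
    exact ⟨V, hx, E, α ≫ (rdQIso _ F).inv ≫ (Rd V.ι).map i.hom, hE,
      Near.comp ⟨h1, h2⟩ ((near_of_isIso _).comp (near_of_isIso _))⟩
  · obtain ⟨V, hx, E, α, hE, hα⟩ := h x
    refine ⟨V, hx, fun F ⟨i⟩ => ?_⟩
    obtain ⟨h1, h2⟩ : Near m (α ≫ (Rd V.ι).map i.inv ≫ (rdQIso _ F).hom) :=
      hα.comp ((near_of_isIso _).comp (near_of_isIso _))
    exact ⟨E, _, hE, h1, h2⟩

lemma isPseudoCoherentD_of_iso {m : ℤ} {K L : DCoh.D X} (e : K ≅ L)
    (h : DCoh.IsPseudoCoherentD m K) : DCoh.IsPseudoCoherentD m L := by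
  rw [isPseudoCoherentD_iff] at h ⊢
  intro x
  obtain ⟨V, hx, hV⟩ := h x
  exact ⟨V, hx, hV.of_iso e⟩

lemma PCohOn.shift {m : ℤ} {K : DCoh.D X} {V : X.Opens} (h : PCohOn m K V) (n : ℤ) :
    PCohOn (m - n) (K⟦n⟧) V := by
  obtain ⟨E, α, hE, hα⟩ := h
  exact ⟨E⟦n⟧, ((DerivedCategory.Q.commShiftIso n).app E).hom ≫ α⟦n⟧' ≫
    (((Rd V.ι).commShiftIso n).app K).inv, isStrictlyPerfect_shift hE n,
    (near_of_isIso _).comp ((hα.shift n).comp (near_of_isIso _))⟩

lemma isPseudoCoherentD_shift {m : ℤ} {K : DCoh.D X} (h : DCoh.IsPseudoCoherentD m K) (n m' : ℤ)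
    (hm : m - n = m') : DCoh.IsPseudoCoherentD m' (K⟦n⟧) := by
  subst hm
  rw [isPseudoCoherentD_iff] at h ⊢
  intro x
  obtain ⟨V, hx, hV⟩ := h x
  exact ⟨V, hx, hV.shift n⟩

lemma isPseudoCoherentD_of_shift {m : ℤ} {K : DCoh.D X} (n m' : ℤ) (hm : m + n = m')
    (h : DCoh.IsPseudoCoherentD m (K⟦n⟧)) : DCoh.IsPseudoCoherentD m' K :=
  isPseudoCoherentD_of_iso ((shiftEquiv (DCoh.D X) n).unitIso.app K).symm
    (isPseudoCoherentD_shift h (-n) m' (by lia))

/-- the inclusion of the stupid truncation `σ≥a` -/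
noncomputable def stupidι (E : CochainComplex X.Modules ℤ) (a : ℤ) :
    HomologicalComplex.stupidTrunc E (ComplexShape.embeddingUpIntGE a) ⟶ E where
  f i := if h : a ≤ i then
      (HomologicalComplex.stupidTruncXIso E (ComplexShape.embeddingUpIntGE a) (i := (i - a).toNat)
        (i' := i) (by simp; lia)).hom
    else 0
  comm' i j hij := by
    simp only [ComplexShape.up_Rel] at hij
    subst hij
    by_cases h : a ≤ i
    · rw [dif_pos h, dif_pos (by lia)]
      simp [HomologicalComplex.stupidTrunc, HomologicalComplex.stupidTruncXIso,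
        HomologicalComplex.extend_d_eq _ (ComplexShape.embeddingUpIntGE a)
          (show (ComplexShape.embeddingUpIntGE a).f (i - a).toNat = i by simp; lia)
          (show (ComplexShape.embeddingUpIntGE a).f (i + 1 - a).toNat = i + 1 by simp; lia),
        HomologicalComplex.restriction_d_eq _ (ComplexShape.embeddingUpIntGE a)
          (show (ComplexShape.embeddingUpIntGE a).f (i - a).toNat = i by simp; lia)
          (show (ComplexShape.embeddingUpIntGE a).f (i + 1 - a).toNat = i + 1 by simp; lia),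
        HomologicalComplex.restrictionXIso]
      have key : ∀ {p p' q q' : ℤ} (hp : p' = p) (hq : q' = q),
          eqToHom (by rw [hp]) ≫ E.d p q = E.d p' q' ≫ eqToHom (congrArg E.X hq) := by
        intro p p' q q' hp hq
        subst hp hq
        simp
      exact key (by simp; lia) (by simp; lia)
    · exact (HomologicalComplex.isZero_stupidTrunc_X _ _ _ fun k => by simp; lia).eq_of_src _ _

lemma isIso_stupidι_f (E : CochainComplex X.Modules ℤ) (a i : ℤ) (h : a ≤ i) :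
    IsIso ((stupidι E a).f i) := by
  dsimp only [stupidι]
  rw [dif_pos h]
  infer_instance

/-- the stupid truncation `σ≥a` of a strictly perfect complex -/
theorem exists_stupidGE (E : CochainComplex X.Modules ℤ) (hE : DCoh.IsStrictlyPerfect E) (a : ℤ) :
    ∃ (E' : CochainComplex X.Modules ℤ) (ι : E' ⟶ E), DCoh.IsStrictlyPerfect E' ∧
      (∀ i, i < a → IsZero (E'.X i)) ∧ Near a (DerivedCategory.Q.map ι) := by
  let e := ComplexShape.embeddingUpIntGE a
  let E' := HomologicalComplex.stupidTrunc E e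
  have h0 : ∀ i, i < a → IsZero (E'.X i) := fun i hi =>
    HomologicalComplex.isZero_stupidTrunc_X E e i fun k => by simp [e]; lia
  have hi : ∀ i, a ≤ i → IsIso ((stupidι E a).f i) := isIso_stupidι_f E a
  refine ⟨E', stupidι E a, ⟨?_, fun i => ?_⟩, h0, ?_⟩
  · obtain ⟨⟨c, d, hcd⟩, -⟩ := hE
    refine ⟨c, d, fun i hi' => ?_⟩
    by_cases hai : a ≤ i
    · have := hi i hai
      exact (hcd i hi').of_iso (asIso ((stupidι E a).f i))
    · exact h0 i (by lia)
  · by_cases hai : a ≤ i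
    · have := hi i hai
      exact Groth.KTheory.LocFree.isFinLocFree_of_iso (asIso ((stupidι E a).f i)).symm (hE.2 i)
    · exact Groth.KTheory.LocFree.isFinLocFree_zero (h0 i (by lia))
  · have key : ∀ i, (DerivedCategory.homologyFunctor X.Modules i).map
        (DerivedCategory.Q.map (stupidι E a)) =
        (DerivedCategory.homologyFunctorFactors X.Modules i).hom.app E' ≫
          HomologicalComplex.homologyMap (stupidι E a) i ≫
          (DerivedCategory.homologyFunctorFactors X.Modules i).inv.app E := fun i =>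
      (NatIso.naturality_2 (DerivedCategory.homologyFunctorFactors X.Modules i) _).symm
    refine ⟨fun i hai => ?_, ?_⟩
    · rw [key]
      have : IsIso (HomologicalComplex.homologyMap (stupidι E a) i) := by
        let φ := (HomologicalComplex.shortComplexFunctor' X.Modules (ComplexShape.up ℤ) (i - 1) i
          (i + 1)).map (stupidι E a)
        have : QuasiIsoAt (stupidι E a) i := by
          rw [quasiIsoAt_iff' _ (i - 1) i (i + 1) (by simp) (by simp)]
          have : Epi φ.τ₁ := by have := hi (i - 1) (by lia); exact inferInstanceAs (Epi ((stupidι E a).f (i - 1)))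
          have : IsIso φ.τ₂ := hi i hai.le
          have : Mono φ.τ₃ := by have := hi (i + 1) (by lia); exact inferInstanceAs (Mono ((stupidι E a).f (i + 1)))
          exact ShortComplex.quasiIso_of_epi_of_isIso_of_mono φ
        exact (quasiIsoAt_iff_isIso_homologyMap _ _).1 this
      have := ((DerivedCategory.homologyFunctorFactors X.Modules i).app E').isIso_hom
      have := ((DerivedCategory.homologyFunctorFactors X.Modules i).app E).isIso_inv
      exact IsIso.comp_isIso' ‹_› (IsIso.comp_isIso' ‹_› ‹_›)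
    · rw [key]
      have : Epi (HomologicalComplex.homologyMap (stupidι E a) a) := by
        have := hi a le_rfl
        have := hi (a + 1) (by lia)
        have : Epi (HomologicalComplex.cyclesMap (stupidι E a) a) := by
          refine ⟨fun {Z} g g' hg => ?_⟩
          let l : E.cycles a ⟶ E'.cycles a :=
            E'.liftCycles (E.iCycles a ≫ inv ((stupidι E a).f a)) (a + 1) (by simp) (by
              rw [← cancel_mono ((stupidι E a).f (a + 1)), Category.assoc, Category.assoc,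
                ← (stupidι E a).comm a (a + 1)]
              erw [IsIso.inv_hom_id_assoc]
              simp)
          have hl : l ≫ HomologicalComplex.cyclesMap (stupidι E a) a = 𝟙 _ := by
            rw [← cancel_mono (E.iCycles a)]
            simp [l]
          simpa [reassoc_of% hl] using l ≫= hg
        have : Epi (E'.homologyπ a ≫ HomologicalComplex.homologyMap (stupidι E a) a) := by
          rw [HomologicalComplex.homologyπ_naturality]
          exact epi_comp _ _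
        exact epi_of_epi (E'.homologyπ a) _
      exact epi_comp' (@IsIso.epi_of_iso _ _ _ _ _
          ((DerivedCategory.homologyFunctorFactors X.Modules a).app E').isIso_hom)
        (epi_comp' this (@IsIso.epi_of_iso _ _ _ _ _
          ((DerivedCategory.homologyFunctorFactors X.Modules a).app E).isIso_inv))

/-- locally, maps from a strictly perfect complex to an object below its degrees vanish -/
theorem exists_map_eq_zero {E : CochainComplex X.Modules ℤ} (hE : DCoh.IsStrictlyPerfect E) {a : ℤ}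
    (hEa : ∀ i, i < a → IsZero (E.X i)) {C : DCoh.D X} (hC : Below a C) (φ : DCoh.toD X E ⟶ C)
    (x : X) : ∃ W : X.Opens, x ∈ W ∧ (Rd W.ι).map φ = 0 := by
  obtain ⟨F, ⟨i⟩⟩ := exists_rep C
  obtain ⟨Y, g, s, hs, hfac⟩ := DerivedCategory.left_fac (φ ≫ i.inv)
  have hY : ∀ n, a ≤ n → IsZero (Y.homology n) := fun n hn =>
    ((hC.of_iso (i.symm ≪≫ @asIso _ _ _ _ (DerivedCategory.Q.map s) hs)) n hn).of_iso
      ((DerivedCategory.homologyFunctorFactors X.Modules n).app Y).symm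
  obtain ⟨W, hxW, ⟨H⟩⟩ := exists_nullHomotopy g hE a hEa hY x
  refine ⟨W, hxW, ?_⟩
  have h0 : (Rd W.ι).map (DerivedCategory.Q.map g) = 0 := by
    rw [rd_map_Q, DerivedCategory.Q_map_eq_of_homotopy _ H]
    simp
  have : φ = DerivedCategory.Q.map g ≫ inv (DerivedCategory.Q.map s) ≫ i.hom := by
    rw [← Category.assoc, ← hfac, Category.assoc, i.inv_hom_id, Category.comp_id]
  rw [this, Functor.map_comp, h0, zero_comp]

/-- locally, maps from a strictly perfect complex lift through near isomorphisms -/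
theorem exists_lift {E : CochainComplex X.Modules ℤ} (hE : DCoh.IsStrictlyPerfect E) {a : ℤ}
    (hEa : ∀ i, i < a → IsZero (E.X i)) {K L : DCoh.D X} {β : K ⟶ L} (hβ : Near a β)
    (φ : DCoh.toD X E ⟶ L) (x : X) :
    ∃ (W : X.Opens) (γ : (Rd W.ι).obj (DCoh.toD X E) ⟶ (Rd W.ι).obj K),
      x ∈ W ∧ γ ≫ (Rd W.ι).map β = (Rd W.ι).map φ := by
  obtain ⟨C, v, w, hT⟩ := distinguished_cocone_triangle β
  obtain ⟨W, hxW, h0⟩ := exists_map_eq_zero hE hEa (below_of_near _ hT hβ) (φ ≫ v) x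
  obtain ⟨γ, hγ⟩ := Triangle.coyoneda_exact₂ _ ((Rd W.ι).map_distinguished _ hT)
    ((Rd W.ι).map φ) ((Functor.map_comp _ _ _).symm.trans h0)
  exact ⟨W, γ, hxW, hγ.symm⟩

/-- the third vertex of a triangle -/
theorem exists_pcohOn_obj₃ {m : ℤ} (T : Triangle (DCoh.D X)) (hT : T ∈ distTriang _) {V : X.Opens}
    (h₁ : PCohOn (m + 1) T.obj₁ V) (h₂ : PCohOn m T.obj₂ V) (x : X) (hx : x ∈ V) :
    ∃ W : X.Opens, x ∈ W ∧ PCohOn m T.obj₃ W := by
  obtain ⟨E₁₀, α₀, hE₁₀, hα₀⟩ := h₁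
  obtain ⟨E₁, ι, hE₁, hE₁a, hι⟩ := exists_stupidGE E₁₀ hE₁₀ (m + 1)
  obtain ⟨E₂, β, hE₂, hβ⟩ := h₂
  let α := DerivedCategory.Q.map ι ≫ α₀
  have hα : Near (m + 1) α := hι.comp hα₀
  let T' := (Rd V.ι).mapTriangle.obj T
  have hT' : T' ∈ distTriang _ := (Rd V.ι).map_distinguished _ hT
  obtain ⟨W, γ, hxW, hγ⟩ := exists_lift hE₁ hE₁a (hβ.mono (by lia)) (α ≫ T'.mor₁) ⟨x, hx⟩
  let R := Rd W.ι
  let T₁ := R.mapTriangle.obj T'
  have hT₁ : T₁ ∈ distTriang _ := R.map_distinguished _ hT'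
  obtain ⟨N, v, w, hN⟩ := distinguished_cocone_triangle γ
  obtain ⟨δ, hδ⟩ := exists_near_third hN T₁ hT₁ (α := R.map α) (β := R.map β) (near_rd _ hα)
    (near_rd _ hβ) (hγ.trans (Functor.map_comp _ _ _))
  have hP : ∀ (F : CochainComplex (V : Scheme.{u}).Modules ℤ), DCoh.IsStrictlyPerfect F →
      PerfOn (R.obj (DCoh.toD _ F)) ⊤ := fun F hF =>
    ⟨_, rc_isStrictlyPerfect _ (rc_isStrictlyPerfect W.ι hF),
      ⟨(Rd (⊤ : Scheme.Opens _).ι).mapIso (rdQIso W.ι F) ≪≫ rdQIso _ _⟩⟩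
  obtain ⟨Z, hxZ, E, hE, ⟨e⟩⟩ :=
    exists_perfOn_obj₃ (Triangle.mk γ v w) hN (hP E₁ hE₁) (hP E₂ hE₂) ⟨⟨x, hx⟩, hxW⟩ trivial
  obtain ⟨c⟩ := nonempty_rdComp (k := Z.ι) (j := W.ι ≫ V.ι) (l := Z.ι ≫ W.ι ≫ V.ι) rfl T.obj₃
  obtain ⟨c'⟩ := nonempty_rdComp (k := W.ι) (j := V.ι) (l := W.ι ≫ V.ι) rfl T.obj₃
  refine ⟨(Z.ι ≫ W.ι ≫ V.ι).opensRange, ⟨⟨⟨⟨x, hx⟩, hxW⟩, hxZ⟩, rfl⟩,
    pcohOn_of_range _ hE (e.inv ≫ (Rd Z.ι).map (δ ≫ c'.inv) ≫ c.inv) ?_⟩
  exact (near_of_isIso _).comp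
    ((near_rd _ (hδ.comp (near_of_isIso _))).comp (near_of_isIso _))

theorem isPseudoCoherentD_obj₃ {m : ℤ} (T : Triangle (DCoh.D X)) (hT : T ∈ distTriang _)
    (h₁ : DCoh.IsPseudoCoherentD (m + 1) T.obj₁) (h₂ : DCoh.IsPseudoCoherentD m T.obj₂) :
    DCoh.IsPseudoCoherentD m T.obj₃ := by
  rw [isPseudoCoherentD_iff] at h₁ h₂ ⊢
  intro x
  obtain ⟨V₁, hx₁, hV₁⟩ := h₁ x
  obtain ⟨V₂, hx₂, hV₂⟩ := h₂ x
  exact exists_pcohOn_obj₃ T hT (hV₁.mono_open inf_le_left) (hV₂.mono_open inf_le_right) x ⟨hx₁, hx₂⟩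

theorem isPseudoCoherentD_obj₂ {m : ℤ} (T : Triangle (DCoh.D X)) (hT : T ∈ distTriang _)
    (h₁ : DCoh.IsPseudoCoherentD m T.obj₁) (h₃ : DCoh.IsPseudoCoherentD m T.obj₃) :
    DCoh.IsPseudoCoherentD m T.obj₂ :=
  isPseudoCoherentD_obj₃ T.invRotate (inv_rot_of_distTriang _ hT)
    (isPseudoCoherentD_shift h₃ (-1) (m + 1) (by lia)) h₁

theorem isPseudoCoherentD_obj₁ {m : ℤ} (T : Triangle (DCoh.D X)) (hT : T ∈ distTriang _)
    (h₂ : DCoh.IsPseudoCoherentD (m + 1) T.obj₂) (h₃ : DCoh.IsPseudoCoherentD m T.obj₃) :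
    DCoh.IsPseudoCoherentD (m + 1) T.obj₁ :=
  isPseudoCoherentD_of_shift 1 (m + 1) rfl (isPseudoCoherentD_obj₃ T.rotate (rot_of_distTriang _ hT) h₂ h₃)

/-- pseudo-coherence of direct summands -/
theorem exists_pcohOn_summand {m : ℤ} (K L : DCoh.D X) [HasBinaryBiproduct K L] {V : X.Opens}
    (h : PCohOn m (K ⊞ L) V) (x : X) (hx : x ∈ V) :
    ∃ W : X.Opens, x ∈ W ∧ PCohOn m K W ∧ PCohOn m L W := by
  have h' := h
  obtain ⟨E, α, ⟨⟨c, b, hb⟩, -⟩, hα⟩ := h'
  have hz : ∀ n, max m b < n → IsZero ((DerivedCategory.homologyFunctor _ n).obj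
      ((Rd V.ι).obj (K ⊞ L))) := fun n hn => by
    have := hα.1 n (by lia)
    refine IsZero.of_iso ?_ (asIso ((DerivedCategory.homologyFunctor _ n).map α)).symm
    exact IsZero.of_iso ((HomologicalComplex.exactAt_iff_isZero_homology _ _).1
      (.of_isZero (hb n (.inr (by lia))))) ((DerivedCategory.homologyFunctorFactors _ n).app E)
  have base : ∀ (M : DCoh.D X) (i : M ⟶ K ⊞ L) [IsSplitMono i] (j : ℤ), max m b < j →
      PCohOn j M V := fun M i _ j hj => by
    refine ⟨0, 0, ⟨⟨0, 0, fun n _ => ?_⟩, fun n => Groth.KTheory.LocFree.isFinLocFree_zero ?_⟩, ?_⟩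
    · exact (HomologicalComplex.eval _ _ n).map_isZero (isZero_zero _)
    · exact (HomologicalComplex.eval _ _ n).map_isZero (isZero_zero _)
    · have hM : ∀ n, j ≤ n → IsZero ((DerivedCategory.homologyFunctor _ n).obj ((Rd V.ι).obj M)) :=
        fun n hn => IsZero.of_mono ((DerivedCategory.homologyFunctor _ n).map ((Rd V.ι).map i))
          (hz n (by lia))
      have h0 : IsZero (DCoh.toD (V : Scheme.{u}) 0) := DerivedCategory.Q.map_isZero (isZero_zero _)
      exact ⟨fun n hn => ⟨⟨0, ((DerivedCategory.homologyFunctor _ n).map_isZero h0).eq_of_src _ _,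
          (hM n hn.le).eq_of_src _ _⟩⟩, (hM j le_rfl).epi _⟩
  suffices key : ∀ n : ℕ, ∀ j : ℤ, m ≤ j → max m b < j + n →
      ∃ W : X.Opens, x ∈ W ∧ W ≤ V ∧ PCohOn j K W ∧ PCohOn j L W by
    obtain ⟨W, h1, -, h2⟩ := key (max m b - m + 1).toNat m le_rfl (by lia)
    exact ⟨W, h1, h2⟩
  intro n
  induction n with
  | zero =>
    intro j hj hjn
    exact ⟨V, hx, le_rfl, base K biprod.inl j (by lia), base L biprod.inr j (by lia)⟩
  | succ n ih =>
    intro j hj hjn
    obtain ⟨W, hxW, hWV, hK, hL⟩ := ih (j + 1) (by lia) (by lia)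
    have hKL : PCohOn j (K ⊞ L) W := (h.mono hj).mono_open hWV
    obtain ⟨W₁, hx₁, hL'⟩ := exists_pcohOn_obj₃ _ (binaryBiproductTriangle_distinguished K L)
      hK hKL x hxW
    let T : Triangle (DCoh.D X) := binaryBiproductTriangle L K
    have hT : T ∈ distTriang _ := binaryBiproductTriangle_distinguished L K
    obtain ⟨W₂, hx₂, hK'⟩ := exists_pcohOn_obj₃ T hT hL (hKL.of_iso (biprod.braiding K L)) x hxW
    exact ⟨W₁ ⊓ W₂ ⊓ V, ⟨⟨hx₁, hx₂⟩, hx⟩, inf_le_right,
      hK'.mono_open (inf_le_left.trans inf_le_right), hL'.mono_open (inf_le_left.trans inf_le_left)⟩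

theorem isPseudoCoherentD_summands {m : ℤ} (K L : DCoh.D X) [HasBinaryBiproduct K L]
    (h : DCoh.IsPseudoCoherentD m (K ⊞ L)) :
    DCoh.IsPseudoCoherentD m K ∧ DCoh.IsPseudoCoherentD m L := by
  rw [isPseudoCoherentD_iff] at h ⊢
  rw [isPseudoCoherentD_iff]
  refine ⟨fun x => ?_, fun x => ?_⟩ <;>
  · obtain ⟨V, hx, hV⟩ := h x
    obtain ⟨W, hxW, h1, h2⟩ := exists_pcohOn_summand K L hV x hx
    exact ⟨W, hxW, by assumption⟩

end Groth.DerivedCoh.PCoh
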