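import Mathlib.Algebra.Homology.DerivedCategory.HomologySequence
import Mathlib.CategoryTheory.Triangulated.Triangulated

/-!
Morphisms of a derived category inducing isomorphisms on cohomology above a degree and an epimorphism in it.
-/

universe w v u

namespace Groth.DerivedCoh.PCoh

open CategoryTheory CategoryTheory.Limits Pretriangulated DerivedCategory

variable {A : Type u} [Category.{v} A] [Abelian A] [HasDerivedCategory.{w} A]

/-- iso on `H^i` for `i > m`, epi on `H^m` -/
def Near (m : ℤ) {K L : DerivedCategory A} (α : K ⟶ L) : Prop :=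
  (∀ i, m < i → IsIso ((homologyFunctor A i).map α)) ∧ Epi ((homologyFunctor A m).map α)

/-- cohomology vanishes in degrees `≥ m` -/
def Below (m : ℤ) (C : DerivedCategory A) : Prop :=
  ∀ i, m ≤ i → IsZero ((homologyFunctor A i).obj C)

lemma Below.of_iso {m : ℤ} {C C' : DerivedCategory A} (h : Below m C) (e : C ≅ C') : Below m C' :=
  fun i hi => (h i hi).of_iso ((homologyFunctor A i).mapIso e).symm

lemma Below.mono {m m' : ℤ} {C : DerivedCategory A} (h : Below m C) (hm : m ≤ m') : Below m' C :=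
  fun i hi => h i (hm.trans hi)

/-- cohomology of shifts -/
noncomputable def hShiftIso (n i j : ℤ) (hij : n + i = j) :
    shiftFunctor (DerivedCategory A) n ⋙ homologyFunctor A i ≅ homologyFunctor A j :=
  (homologyFunctor A 0).shiftIso n i j hij

lemma Below.shift {m : ℤ} {C : DerivedCategory A} (h : Below m C) (n : ℤ) :
    Below (m - n) (C⟦n⟧) := fun i hi =>
  (h (n + i) (by lia)).of_iso ((hShiftIso n i (n + i) rfl).app C)

lemma Near.mono {m m' : ℤ} {K L : DerivedCategory A} {α : K ⟶ L} (h : Near m α) (hm : m ≤ m') :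
    Near m' α := by
  refine ⟨fun i hi => h.1 i (by lia), ?_⟩
  rcases hm.eq_or_lt with rfl | hlt
  · exact h.2
  · have := h.1 m' hlt
    infer_instance

lemma Near.comp {m : ℤ} {K L M : DerivedCategory A} {α : K ⟶ L} {β : L ⟶ M} (h : Near m α)
    (h' : Near m β) : Near m (α ≫ β) := by
  refine ⟨fun i hi => ?_, ?_⟩
  · have := h.1 i hi
    have := h'.1 i hi
    rw [Functor.map_comp]
    infer_instance
  · have := h.2
    have := h'.2
    rw [Functor.map_comp]
    infer_instance

lemma near_of_isIso {m : ℤ} {K L : DerivedCategory A} (α : K ⟶ L) [IsIso α] : Near m α :=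
  ⟨fun _ _ => inferInstance, inferInstance⟩

lemma Near.shift {m : ℤ} {K L : DerivedCategory A} {α : K ⟶ L} (h : Near m α) (n : ℤ) :
    Near (m - n) (α⟦n⟧') := by
  refine ⟨fun i hi => ?_, ?_⟩
  · exact (NatIso.isIso_map_iff (hShiftIso n i (n + i) rfl) α).2 (h.1 (n + i) (by lia))
  · have e := (hShiftIso (A := A) n (m - n) m (by lia)).hom.naturality α
    have := h.2
    have : Epi ((shiftFunctor (DerivedCategory A) n ⋙ homologyFunctor A (m - n)).map α ≫
        (hShiftIso n (m - n) m (by lia)).hom.app L) := by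
      rw [e]
      exact epi_comp _ _
    exact ((MorphismProperty.epimorphisms A).cancel_right_of_respectsIso _ _).1 this

/-- the cone of a near isomorphism is below -/
lemma below_of_near {m : ℤ} (T : Triangle (DerivedCategory A)) (hT : T ∈ distTriang _)
    (h : Near m T.mor₁) : Below m T.obj₃ := by
  intro i hi
  refine (HomologySequence.exact₃ T hT i (i + 1) rfl).isZero_of_both_zeros ?_ ?_
  · rw [← HomologySequence.epi_homologyMap_mor₁_iff T hT i]
    exact (h.mono hi).2
  · rw [← HomologySequence.mono_homologyMap_mor₁_iff T hT i (i + 1) rfl]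
    have := h.1 (i + 1) (by lia)
    infer_instance

/-- a morphism with cone below is a near isomorphism -/
lemma near_of_below {m : ℤ} (T : Triangle (DerivedCategory A)) (hT : T ∈ distTriang _)
    (h : Below m T.obj₃) : Near m T.mor₁ := by
  have he : ∀ i, m ≤ i → Epi ((homologyFunctor A i).map T.mor₁) := fun i hi => by
    rw [HomologySequence.epi_homologyMap_mor₁_iff T hT i]
    exact (h i hi).eq_of_tgt _ _
  refine ⟨fun i hi => ?_, he m le_rfl⟩
  have := he i hi.le
  have : Mono ((homologyFunctor A i).map T.mor₁) := by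
    rw [HomologySequence.mono_homologyMap_mor₁_iff T hT (i - 1) i (by lia)]
    exact (h (i - 1) (by lia)).eq_of_src _ _
  exact isIso_of_mono_of_epi _

/-- near isomorphisms to a triangle: the induced morphism on cones -/
lemma exists_near_third {m : ℤ} {E₁ E₂ N : DerivedCategory A} {γ : E₁ ⟶ E₂} {v : E₂ ⟶ N}
    {w : N ⟶ E₁⟦(1 : ℤ)⟧} (hγ : Triangle.mk γ v w ∈ distTriang _)
    (T : Triangle (DerivedCategory A)) (hT : T ∈ distTriang _)
    {α : E₁ ⟶ T.obj₁} {β : E₂ ⟶ T.obj₂} (hα : Near (m + 1) α) (hβ : Near m β)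
    (comm : γ ≫ β = α ≫ T.mor₁) : ∃ δ : N ⟶ T.obj₃, Near m δ := by
  obtain ⟨Cα, vα, wα, hTα⟩ := distinguished_cocone_triangle α
  obtain ⟨Cβ, vβ, wβ, hTβ⟩ := distinguished_cocone_triangle β
  obtain ⟨N', v', w', hN'⟩ := distinguished_cocone_triangle (α ≫ T.mor₁)
  have h2 : Triangle.mk T.mor₁ T.mor₂ T.mor₃ ∈ distTriang _ := hT
  let o₁ := Triangulated.someOctahedron comm hγ hTβ hN'
  let o₂ := Triangulated.someOctahedron (rfl : α ≫ T.mor₁ = α ≫ T.mor₁) hTα h2 hN'
  have hCα : Below m (Cα⟦(1 : ℤ)⟧) := by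
    simpa using (below_of_near _ hTα hα).shift 1
  exact ⟨o₁.m₁ ≫ o₂.m₃, (near_of_below _ o₁.mem (below_of_near (Triangle.mk β vβ wβ) hTβ hβ)).comp
    (near_of_below _ (rot_of_distTriang _ o₂.mem) hCα)⟩

end Groth.DerivedCoh.PCoh
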